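import Mathlib

/-!
Immersions from dense open pieces of a separated morphism.
-/

set_option autoImplicit false
set_option linter.style.haveILetI false
set_option backward.isDefEq.respectTransparency false

universe u

open CategoryTheory Limits AlgebraicGeometry TopologicalSpace

namespace Groth.Agent.DenseImmLib

variable {X Y : Scheme.{u}} (f : X ⟶ Y) [IsSeparated f]

theorem preimage_coborderRange {U : X.Opens} (hd : Dense (U : Set X)) [IsImmersion (U.ι ≫ f)] :
    f ⁻¹ᵁ (U.ι ≫ f).coborderRange = U := by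
  set g := U.ι ≫ f
  set V := g.coborderRange
  have hUV : U ≤ f ⁻¹ᵁ V := fun x hx => by
    have : V.ι (g.liftCoborder ⟨x, hx⟩) = f x := by
      rw [← Scheme.Hom.comp_apply]; simp only [V, Scheme.Hom.liftCoborder_ι]; rfl
    show f x ∈ V
    exact this ▸ (g.liftCoborder ⟨x, hx⟩).2
  let j : (U : Scheme.{u}) ⟶ (f ⁻¹ᵁ V : Scheme.{u}) := X.homOfLE hUV
  have hj : j ≫ (f ∣_ V) = g.liftCoborder := by
    rw [← cancel_mono V.ι, Category.assoc, morphismRestrict_ι, Scheme.Hom.liftCoborder_ι]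
    simp [j, g]
  haveI : IsClosedImmersion (j ≫ (f ∣_ V)) := by rw [hj]; infer_instance
  haveI : IsSeparated (f ∣_ V) := IsZariskiLocalAtTarget.restrict ‹IsSeparated f› V
  haveI : IsClosedImmersion j := IsClosedImmersion.of_comp j (f ∣_ V)
  refine le_antisymm (fun x hx => ?_) hUV
  have hcl := j.isClosedEmbedding.isClosed_range
  have hden : Dense (Set.range j) := by
    refine (hd.preimage (f ⁻¹ᵁ V).ι.isOpenEmbedding.isOpenMap).mono ?_
    intro w hw
    refine ⟨⟨w.1, hw⟩, (f ⁻¹ᵁ V).ι.isOpenEmbedding.injective ?_⟩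
    rw [← Scheme.Hom.comp_apply]; simp [j]
  obtain ⟨u, hu⟩ := (hcl.closure_eq ▸ hden ⟨x, hx⟩ : (⟨x, hx⟩ : (f ⁻¹ᵁ V : Scheme.{u})) ∈ Set.range j)
  have := congrArg (f ⁻¹ᵁ V).ι hu
  rw [← Scheme.Hom.comp_apply] at this
  simp [j] at this
  exact this ▸ u.2

variable {ι : Type u} (U : ι → X.Opens) (hU : ⨆ i, U i = ⊤) (hd : ∀ i, Dense (U i : Set X))

include hU hd in
theorem isImmersion_of_dense (h : ∀ i, IsImmersion ((U i).ι ≫ f)) : IsImmersion f := by
  let V : ι → Y.Opens := fun i => haveI := h i; ((U i).ι ≫ f).coborderRange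
  have hV : ∀ i, f ⁻¹ᵁ V i = U i := fun i => haveI := h i; preimage_coborderRange f (hd i)
  let W : Y.Opens := ⨆ i, V i
  have hW : f ⁻¹ᵁ W = ⊤ := by
    refine eq_top_iff.2 fun x _ => ?_
    have hx : x ∈ ⨆ i, U i := by rw [hU]; trivial
    obtain ⟨i, hi⟩ := Opens.mem_iSup.1 hx
    rw [← hV i] at hi
    exact Opens.mem_iSup.2 ⟨i, hi⟩
  haveI : IsClosedImmersion (f ∣_ W) := by
    rw [IsZariskiLocalAtTarget.iff_of_iSup_eq_top (P := @IsClosedImmersion) (fun i => W.ι ⁻¹ᵁ V i)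
      (eq_top_iff.2 fun y _ => by
        obtain ⟨i, hi⟩ := Opens.mem_iSup.1 y.2
        exact Opens.mem_iSup.2 ⟨i, hi⟩)]
    intro i
    rw [MorphismProperty.arrow_mk_iso_iff (P := @IsClosedImmersion) (morphismRestrictRestrict f W _)]
    have hVi : W.ι ''ᵁ (W.ι ⁻¹ᵁ V i) = V i := by
      rw [Scheme.Hom.image_preimage_eq_opensRange_inf, Scheme.Opens.opensRange_ι]
      exact inf_eq_right.2 (le_iSup V i)
    rw [MorphismProperty.arrow_mk_iso_iff (P := @IsClosedImmersion) (morphismRestrictEq f hVi)]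
    haveI := h i
    have e : (X.isoOfEq (hV i)).inv ≫ (f ∣_ V i) = ((U i).ι ≫ f).liftCoborder := by
      rw [← cancel_mono (V i).ι, Category.assoc, morphismRestrict_ι]
      simp [V]
    rw [← MorphismProperty.cancel_left_of_respectsIso @IsClosedImmersion (X.isoOfEq (hV i)).inv, e]
    infer_instance
  have e : f = X.topIso.inv ≫ (X.isoOfEq hW).inv ≫ (f ∣_ W) ≫ W.ι := by
    rw [morphismRestrict_ι]; simp
  rw [e]
  infer_instance

include hU hd in
theorem isOpenImmersion_of_dense (h : ∀ i, IsOpenImmersion ((U i).ι ≫ f)) : IsOpenImmersion f := by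
  haveI : ∀ i, IsImmersion ((U i).ι ≫ f) := fun i => haveI := h i; inferInstance
  haveI := isImmersion_of_dense f U hU hd inferInstance
  refine (isOpenImmersion_iff_stalk).2 ⟨⟨f.isEmbedding, ?_⟩, fun x => ?_⟩
  · have : Set.range f = ⋃ i, Set.range ((U i).ι ≫ f) := by
      ext y
      simp only [Set.mem_range, Set.mem_iUnion]
      refine ⟨fun ⟨x, hx⟩ => ?_, fun ⟨i, z, hz⟩ => ⟨(U i).ι z, by rw [← hz]; rfl⟩⟩
      have hxU : x ∈ ⨆ i, U i := by rw [hU]; trivial
      obtain ⟨i, hi⟩ := Opens.mem_iSup.1 hxU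
      exact ⟨i, ⟨x, hi⟩, hx⟩
    rw [this]
    exact isOpen_iUnion fun i => haveI := h i; ((U i).ι ≫ f).isOpenEmbedding.isOpen_range
  · have hxU : x ∈ ⨆ i, U i := by rw [hU]; trivial
    obtain ⟨i, hi⟩ := Opens.mem_iSup.1 hxU
    haveI := h i
    have hc : IsIso (((U i).ι ≫ f).stalkMap ⟨x, hi⟩) := inferInstance
    rw [Scheme.Hom.stalkMap_comp] at hc
    haveI : IsIso (f.stalkMap x ≫ (U i).ι.stalkMap ⟨x, hi⟩) := hc
    exact IsIso.of_isIso_comp_right (f.stalkMap x) ((U i).ι.stalkMap ⟨x, hi⟩)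

end Groth.Agent.DenseImmLib
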